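import Mathlib

/-!
# The symmetric group of degree five: automorphisms, strong reality (helper860)
-/

set_option autoImplicit false

namespace Cfsg.Agent.H860.I4.SFive

open Equiv

/-- every element of `S₅` is inverted by an element of square one -/
theorem sr_all : ∀ σ : Perm (Fin 5), ∃ τ : Perm (Fin 5), τ * τ = 1 ∧ τ * σ = σ⁻¹ * τ := by
  decide +kernel

theorem key_pairs : ∀ a : Perm (Fin 5), (a * a * (a * a) * a = 1 ∧ a ≠ 1) → ∀ b : Perm (Fin 5), (b * b = 1 ∧
    a * b * (a * b) ≠ 1 ∧ a * b * (a * b) * (a * b * (a * b)) = 1) →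
      ∃ σ : Perm (Fin 5), σ * finRotate 5 = a * σ ∧ σ * swap 0 1 = b * σ := by
  decide +kernel

/-- **Automorphisms of the symmetric group of degree five are inner.** -/
theorem inner (θ : Perm (Fin 5) ≃* Perm (Fin 5)) : ∃ σ : Perm (Fin 5), ∀ g, θ g = σ * g * σ⁻¹ := by
  have hinj : ∀ x : Perm (Fin 5), x ≠ 1 → θ x ≠ 1 := fun x hx h => hx (θ.injective (by rw [h, map_one]))
  have e1 : finRotate 5 * finRotate 5 * (finRotate 5 * finRotate 5) * finRotate 5 = (1 : Perm (Fin 5)) := by decide +kernel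
  have e2 : finRotate 5 ≠ (1 : Perm (Fin 5)) := by decide +kernel
  have e3 : swap 0 1 * swap 0 1 = (1 : Perm (Fin 5)) := by decide +kernel
  have e4 : finRotate 5 * swap 0 1 * (finRotate 5 * swap 0 1) ≠ (1 : Perm (Fin 5)) := by decide +kernel
  have e5 : finRotate 5 * swap 0 1 * (finRotate 5 * swap 0 1) * (finRotate 5 * swap 0 1 * (finRotate 5 * swap 0 1)) =
      (1 : Perm (Fin 5)) := by decide +kernel
  have h1 : θ (finRotate 5) * θ (finRotate 5) * (θ (finRotate 5) * θ (finRotate 5)) * θ (finRotate 5) = 1 := by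
    simp only [← map_mul]
    rw [e1, map_one]
  have h3 : θ (swap 0 1) * θ (swap 0 1) = 1 := by
    rw [← map_mul, e3, map_one]
  have h4 : θ (finRotate 5) * θ (swap 0 1) * (θ (finRotate 5) * θ (swap 0 1)) ≠ 1 := by
    simp only [← map_mul]
    exact hinj _ e4
  have h5 : θ (finRotate 5) * θ (swap 0 1) * (θ (finRotate 5) * θ (swap 0 1)) *
      (θ (finRotate 5) * θ (swap 0 1) * (θ (finRotate 5) * θ (swap 0 1))) = 1 := by
    simp only [← map_mul]
    rw [e5, map_one]
  obtain ⟨σ, hσ1, hσ2⟩ := key_pairs _ ⟨h1, hinj _ e2⟩ _ ⟨h3, h4, h5⟩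
  refine ⟨σ, fun g => ?_⟩
  have hcl : Subgroup.closure {finRotate 5, swap (0 : Fin 5) 1} = ⊤ :=
    Equiv.Perm.closure_cycle_adjacent_swap (isCycle_finRotate) (support_finRotate) 0
  have h7 : θ.toMonoidHom = (MulAut.conj σ).toMonoidHom := by
    refine MonoidHom.eq_of_eqOn_dense hcl ?_
    rintro x (rfl | hx)
    · show θ _ = σ * _ * σ⁻¹
      rw [hσ1]; group
    · rw [Set.mem_singleton_iff] at hx
      subst hx
      show θ _ = σ * _ * σ⁻¹
      rw [hσ2]; group
  exact congrFun (congrArg DFunLike.coe h7) g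

/-- the center is trivial -/
theorem center : ∀ σ : Perm (Fin 5), σ * finRotate 5 = finRotate 5 * σ → σ * swap 0 1 = swap 0 1 * σ → σ = 1 := by
  decide +kernel

end Cfsg.Agent.H860.I4.SFive
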