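import Cfsg.Agent.H922.Ore.MTwelve

/-!
# The elements of order 3 of `M₁₂` are strongly real (helper860)

* `sr12` : `g ∈ M₁₂`, `g ^ 3 = 1`: some `t ∈ M₁₂` with `t ^ 2 = 1` inverts `g`.
-/

set_option autoImplicit false

namespace Cfsg.Agent.H860.I4.MTwelve

open Cfsg Equiv Cfsg.Agent.SporadicStructure.M12Core Cfsg.Agent.SporadicStructure.DodecadM12
open Cfsg.Agent.H922.Ore

/-- involutions inverting the candidates of order 3 -/
def S3 : List ℕ := [984642754306893001986305023279301696, 228001363311221454468151101670655040,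
  648333173198446926654847902756766784, 969958826742993894265839954570609728, 233233386906768391987032901617288256,
  984818244535754528103549039458486304]

/-- the test -/
def tst (P : ℕ) : Bool := mem12 P && (!(eqW [P, P, P] []) ||
  S3.any fun s => mem12 s && (eqW [s, s] [] && eqW [s, P, s, P] []))

theorem T12_tst : (T12.all fun e => tst e.1) = true := by decide +kernel

/-- strong reality in `M₁₂` -/
def SR12 (g : Perm GolayPt) : Prop := ∃ t ∈ Spor.M12, t * t = 1 ∧ t * g * t * g = 1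

theorem eqW_of {L M : List ℕ} (hL : ∀ t ∈ L, valid t = true) (hM : ∀ t ∈ M, valid t = true) (h : wp L = wp M) :
    eqW L M = true := by
  rw [eqW, allB_iff]
  intro i hi
  have h1 := pos_wp hL (ofPos i)
  have h2 := pos_wp hM (ofPos i)
  rw [pos_ofPos hi] at h1 h2
  rw [← h1, ← h2, h]
  exact Nat.beq_refl _

theorem sr_of_tst {P : ℕ} (h : tst P = true) (h3 : perm P * perm P * perm P = 1) : SR12 (perm P) := by
  rw [tst, Bool.and_eq_true] at h
  obtain ⟨hP, h⟩ := h
  have hv := Mem12.valid P hP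
  have h4 : eqW [P, P, P] [] = true := by
    refine eqW_of (by simpa using hv) (by simp) ?_
    rw [wp_cons, wp_cons, wp_one, wp_nil, ← mul_assoc, h3]
  rw [h4, Bool.not_true, Bool.false_or, List.any_eq_true] at h
  obtain ⟨s, -, h⟩ := h
  simp only [Bool.and_eq_true] at h
  obtain ⟨hs, h5, h6⟩ := h
  have hvs := Mem12.valid s hs
  refine ⟨perm s, Mem12.mem s hs, ?_, ?_⟩
  · have := wp_eq (L := [s, s]) (M := []) (by simp [hvs]) (by simp) h5
    rwa [wp_cons, wp_one, wp_nil] at this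
  · have := wp_eq (L := [s, P, s, P]) (M := []) (by simp [hvs, hv]) (by simp) h6
    rwa [wp_cons, wp_cons, wp_cons, wp_one, wp_nil, ← mul_assoc, ← mul_assoc] at this

theorem sr_of_cov {g : Perm GolayPt} (hg : g ∈ Spor.M12) (h3 : g * g * g = 1) (h : cov T12 (im g) = true) : SR12 g := by
  rw [cov, List.any_eq_true] at h
  obtain ⟨e, he, h1⟩ := h
  have h2 := List.all_eq_true.1 T12_tst e he
  have hm : mem12 e.1 = true := by
    have h5 := h2
    simp only [tst, Bool.and_eq_true] at h5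
    exact h5.1
  have hv := Mem12.valid _ hm
  have h4 : g = perm e.1 := by
    refine eq_of_fix hg (Mem12.mem _ hm) fun i => pos_injective ?_
    rw [pos_perm hv]
    rw [beq_iff_eq] at h1
    simp only [imT, im, List.cons.injEq, and_true] at h1
    obtain ⟨e0, e1, e2, e3, e4⟩ := h1
    fin_cases i
    · show pos (g (ofPos 0)) = dig e.1 (pos (ofPos 0))
      rw [pos_ofPos (by norm_num), e0]
    · show pos (g (ofPos 1)) = dig e.1 (pos (ofPos 1))
      rw [pos_ofPos (by norm_num), e1]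
    · show pos (g (ofPos 2)) = dig e.1 (pos (ofPos 2))
      rw [pos_ofPos (by norm_num), e2]
    · show pos (g (ofPos 3)) = dig e.1 (pos (ofPos 3))
      rw [pos_ofPos (by norm_num), e3]
    · show pos (g (ofPos 4)) = dig e.1 (pos (ofPos 4))
      rw [pos_ofPos (by norm_num), e4]
  rw [h4]
  exact sr_of_tst h2 (by rw [← h4, h3])

/-- conjugation to a standard position -/
theorem conj {g : Perm GolayPt} (hg3 : g * g * g = 1) {x0 x1 x2 x3 x4 : GolayPt} (h : [x0, x1, x2, x3, x4].Nodup)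
    (h0 : x0 ∈ Spor.squareDodecad) (h1 : x1 ∈ Spor.squareDodecad) (h2 : x2 ∈ Spor.squareDodecad)
    (h3 : x3 ∈ Spor.squareDodecad) (h4 : x4 ∈ Spor.squareDodecad) (hg : g ∈ Spor.M12)
    (key : ∀ c ∈ Spor.M12, c x0 = ofPos 0 → c x1 = ofPos 1 → c x2 = ofPos 2 → c x3 = ofPos 3 → c x4 = ofPos 4 →
      cov T12 (im (c * g * c⁻¹)) = true) : SR12 g := by
  obtain ⟨c, hc, c0, c1, c2, c3, c4⟩ := tr12 h h0 h1 h2 h3 h4
  obtain ⟨t, ht, ht2, htg⟩ := sr_of_cov (Spor.M12.mul_mem (Spor.M12.mul_mem hc hg) (Spor.M12.inv_mem hc)) (by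
    calc c * g * c⁻¹ * (c * g * c⁻¹) * (c * g * c⁻¹) = c * (g * g * g) * c⁻¹ := by group
      _ = 1 := by rw [hg3]; group) (key c hc c0 c1 c2 c3 c4)
  refine ⟨c⁻¹ * t * c, Spor.M12.mul_mem (Spor.M12.mul_mem (Spor.M12.inv_mem hc) ht) hc, ?_, ?_⟩
  · calc c⁻¹ * t * c * (c⁻¹ * t * c) = c⁻¹ * (t * t) * c := by group
      _ = 1 := by rw [ht2]; group
  · calc c⁻¹ * t * c * g * (c⁻¹ * t * c) * g = c⁻¹ * (t * (c * g * c⁻¹) * t * (c * g * c⁻¹)) * c := by group
      _ = 1 := by rw [htg]; group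

theorem sr12_aux (g : Perm GolayPt) (hg : g ∈ Spor.M12) (h3 : g * g * g = 1) : SR12 g := by
  have hm : ∀ {c : Perm GolayPt}, c ∈ Spor.M12 → c * g * c⁻¹ ∈ Spor.M12 := fun hc =>
    Spor.M12.mul_mem (Spor.M12.mul_mem hc hg) (Spor.M12.inv_mem hc)
  have iv : ∀ {p : GolayPt}, p ∈ Spor.squareDodecad → g p ∈ Spor.squareDodecad := fun hp => inv_dd hg hp
  have g3 : ∀ x, g (g (g x)) = x := fun x => congrFun (congrArg DFunLike.coe h3) x
  rcases cyc5 (σ := g) (Y := Spor.squareDodecad) (by rw [card_squareDodecad]; norm_num) with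
    ⟨x, hx, hn⟩ | ⟨x, hx, z, hz, h1, hn⟩ | ⟨x, hx, z, hz, h1, hn⟩ | ⟨x, hx, z, hz, w, hw, h1, h2, h3', hn⟩ |
    ⟨x, hx, z, hz, w, hw, h1, h2, hn⟩ | ⟨x, hx, z, hz, w, hw, u, hu, h1, h2, h3', h4, hn⟩ |
    ⟨x, hx, y, hy, z, hz, w, hw, u, hu, h1, h2, h3', h4, h5, hn⟩
  · exfalso
    rw [g3 x] at hn
    simp at hn
  · exfalso
    rw [g3 x] at hn
    simp at hn
  · refine conj h3 hn hx (iv hx) (iv (iv hx)) hz (iv hz) hg fun c hc c0 c1 c2 c3 c4 => ?_
    refine last (hm hc) (a := 1) (b := 2) (c := 0) (d := 4) ?_ ?_ ?_ ?_ (by decide +kernel)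
    · rw [val c0, c1, pos_ofPos (by norm_num)]
    · rw [val c1, c2, pos_ofPos (by norm_num)]
    · rw [val c2, h1, c0, pos_ofPos (by norm_num)]
    · rw [val c3, c4, pos_ofPos (by norm_num)]
  · refine conj h3 hn hx (iv hx) (iv (iv hx)) hz hw hg fun c hc c0 c1 c2 c3 c4 => ?_
    have e : im (c * g * c⁻¹) = [1, 2, 0, 3, 4] := by
      unfold im
      rw [val c0, val c1, val c2, val c3, val c4, c1, c2, h1, h2, h3', c0, c3, c4, pos_ofPos (by norm_num),
        pos_ofPos (by norm_num), pos_ofPos (by norm_num), pos_ofPos (by norm_num), pos_ofPos (by norm_num)]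
    rw [e]
    decide +kernel
  · exfalso
    have h4 := g3 x
    rw [h1] at h4
    rw [h4] at hn
    simp at hn
  · exfalso
    have h4 := g3 x
    rw [h1] at h4
    rw [h4] at hn
    simp at hn
  · refine conj h3 hn hx hy hz hw hu hg fun c hc c0 c1 c2 c3 c4 => ?_
    have e : im (c * g * c⁻¹) = [0, 1, 2, 3, 4] := by
      unfold im
      rw [val c0, val c1, val c2, val c3, val c4, h1, h2, h3', h4, h5, c0, c1, c2, c3, c4, pos_ofPos (by norm_num),
        pos_ofPos (by norm_num), pos_ofPos (by norm_num), pos_ofPos (by norm_num), pos_ofPos (by norm_num)]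
    rw [e]
    decide +kernel

/-- **The elements of order 3 of `M₁₂` are strongly real.** -/
theorem sr12 (g : Spor.M12) (h3 : g ^ 3 = 1) : ∃ t : Spor.M12, t * t = 1 ∧ t * g * t⁻¹ = g⁻¹ := by
  obtain ⟨t, ht, ht2, htg⟩ := sr12_aux g g.2 (by
    have h := congrArg Subtype.val h3
    rw [pow_succ, pow_two] at h
    exact h)
  refine ⟨⟨t, ht⟩, Subtype.ext ht2, Subtype.ext ?_⟩
  show t * (g : Perm GolayPt) * t⁻¹ = (g : Perm GolayPt)⁻¹
  have h1 : t⁻¹ = t := inv_eq_of_mul_eq_one_right ht2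
  rw [h1]
  exact eq_inv_of_mul_eq_one_left htg

end Cfsg.Agent.H860.I4.MTwelve
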