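import Cfsg.Agent.H740.OreM.Three
import Cfsg.Agent.H680.PQR.BEleven
import Cfsg.Agent.H860.I4.MTwelve
import Cfsg.Agent.H715.Mon.Norm
import Cfsg.Agent.H529.Inv.Pair

/-!
# The Monster: elements of order 3 commuting with an involution are strongly real (helper860; S4171, row M)

* `sr_psl7`, `sr_a5` : elements of order 3 of `PSL(2,7)`, elements of the alternating group of degree 5
* `sr_lift` : lifting from `C(w) / ⟨w⟩`
* `sr_three` : `U` of order 3 commuting with an involution is strongly real.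
-/

set_option autoImplicit false
set_option maxRecDepth 100000

namespace Cfsg.Agent.H860.I4

open Subgroup Cfsg Cfsg.Agent.LThreeMB Cfsg.Agent.LThreeB
open Cfsg.Agent.MonsterX Cfsg.Agent.MonsterX.InstData Cfsg.Agent.MonsterP Cfsg.Agent.MonsterU Cfsg.Agent.MonsterU.Ch
open Cfsg.Agent.MonsterU.Lam2 (L2)
open Cfsg.Agent.MonsterN
open Cfsg.Spor (Co1)
open Cfsg.Agent.BpSpor.MBigModel (MG zz pi chart cls card_M card_cent_z card_cent_t orderOf_zz)
open Cfsg.Agent.H740.OreM (inputs trNe hasPair)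
open Cfsg.Agent.H854.Ore (SR)
open Cfsg.Agent.H529.Inv.Pair

universe u

/-! ### General lemmas -/

theorem sr_hom {G H : Type*} [Group G] [Group H] (f : G →* H) {x : G} (h : SR x) : SR (f x) := by
  obtain ⟨t, ht, hx⟩ := h
  exact ⟨f t, by rw [← map_mul, ht, map_one], by rw [← map_inv, ← map_mul, ← map_mul, hx, map_inv]⟩

theorem sr_zpow {G : Type*} [Group G] {x : G} (h : SR x) (i : ℤ) : SR (x ^ i) := by
  obtain ⟨t, ht, hx⟩ := h
  refine ⟨t, ht, ?_⟩
  have h1 : t * x ^ i * t⁻¹ = (t * x * t⁻¹) ^ i := by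
    rw [← MulAut.conj_apply, map_zpow, MulAut.conj_apply]
  rw [h1, hx, inv_zpow]

/-- Sylow subgroups of prime order: one strongly real element suffices -/
theorem sr_of_not_sq {X : Type u} [Group X] [Finite X] {q : ℕ} (hq : q.Prime) (hq2 : ¬ q ^ 2 ∣ Nat.card X) {x y : X}
    (hx : orderOf x = q) (hy : orderOf y = q) (h : SR x) : SR y := by
  obtain ⟨g, hg, -⟩ := H715.Mon.Grp.conj_of_not_sq hq hq2 hx hy
  obtain ⟨i, hi⟩ := mem_zpowers_iff.1 hg
  have h1 := SR.conj (sr_zpow h i) g⁻¹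
  have h2 : g⁻¹ * x ^ i * g⁻¹⁻¹ = y := by rw [hi]; group
  rwa [h2] at h1

/-- **lifting from `C(w) / ⟨w⟩`** -/
theorem sr_lift {G : Type*} [Group G] {w U : G} {p : ℕ} (hp : p.Prime) (hp2 : p ≠ 2) (hp3 : p ≠ 3) (hw : orderOf w = p)
    (hU : orderOf U = 3) (hc : U * w = w * U) (h : SR (mk w hc : XX w)) : SR U := by
  have hU3 : U ^ 3 = 1 := by rw [← hU, pow_orderOf_eq_one]
  have hwp : w ^ p = 1 := by rw [← hw, pow_orderOf_eq_one]
  obtain ⟨t, ht, htu⟩ := h
  obtain ⟨g, hg, rfl⟩ := exists_mk t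
  have hgg : (g * g) * w = w * (g * g) := by rw [mul_assoc, hg, ← mul_assoc, hg, mul_assoc]
  obtain ⟨i, hi⟩ := (mk_eq_one hgg).1 ht
  have hci : Commute U w := hc
  have hcg : Commute g w := hg
  have hgU : (g * U * g⁻¹) * w = w * (g * U * g⁻¹) := conj_comm hg hc
  have hui : U⁻¹ * w = w * U⁻¹ := hci.inv_left
  have h1 : mk w hgU = mk w hui := htu
  obtain ⟨j, hj⟩ := (mk_eq_mk hgU hui).1 h1
  -- `w ^ j = 1`
  have h3 : (w ^ j) ^ 3 = 1 := by
    have h5 : U⁻¹ = (g * U * g⁻¹) * w ^ j := hj.symm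
    have h6 : Commute (g * U * g⁻¹) (w ^ j) := (show Commute (g * U * g⁻¹) w from hgU).zpow_right j
    have h7 : (U⁻¹) ^ 3 = (g * U * g⁻¹) ^ 3 * (w ^ j) ^ 3 := by rw [h5, h6.mul_pow]
    rw [inv_pow, hU3, conj_pow, hU3, mul_one, mul_inv_cancel, one_mul, inv_one] at h7
    exact h7.symm
  have h4 : (w ^ j) ^ p = 1 := by
    rw [← zpow_natCast, ← zpow_mul, mul_comm, zpow_mul, zpow_natCast, hwp, one_zpow]
  have h5 : w ^ j = 1 := by
    have h6 : orderOf (w ^ j) ∣ Nat.gcd 3 p := Nat.dvd_gcd (orderOf_dvd_of_pow_eq_one h3) (orderOf_dvd_of_pow_eq_one h4)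
    rw [(Nat.coprime_primes Nat.prime_three hp).2 (Ne.symm hp3)] at h6
    exact orderOf_eq_one_iff.1 (Nat.dvd_one.1 h6)
  rw [h5, mul_one] at hj
  -- the involution
  obtain ⟨m, hm⟩ := hp.odd_of_ne_two hp2
  have h6 : Commute g (w ^ i) := hcg.zpow_right i
  refine ⟨g * (w ^ i) ^ m, ?_, ?_⟩
  · have h7 : Commute g ((w ^ i) ^ m) := h6.pow_right m
    calc g * (w ^ i) ^ m * (g * (w ^ i) ^ m) = g * ((w ^ i) ^ m * g) * (w ^ i) ^ m := by group
      _ = (g * g) * ((w ^ i) ^ m * (w ^ i) ^ m) := by rw [← h7.eq]; group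
      _ = (w ^ i) ^ p := by rw [← hi, ← pow_add, ← pow_succ', hm]; congr 1; ring
      _ = 1 := by rw [← zpow_natCast, ← zpow_mul, mul_comm, zpow_mul, zpow_natCast, hwp, one_zpow]
  · have h7 : Commute U ((w ^ i) ^ m) := (hci.zpow_right i).pow_right m
    calc g * (w ^ i) ^ m * U * (g * (w ^ i) ^ m)⁻¹ = g * ((w ^ i) ^ m * U) * ((w ^ i) ^ m)⁻¹ * g⁻¹ := by group
      _ = g * U * g⁻¹ := by rw [← h7.eq]; group
      _ = U⁻¹ := hj

/-! ### `PSL(2,7)` and the alternating group of degree 5 -/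

section seven

open Matrix

abbrev SL7 : Type := SpecialLinearGroup (Fin 2) (ZMod 7)
abbrev PSL7 : Type := ProjectiveSpecialLinearGroup (Fin 2) (ZMod 7)

/-- an element of order 3 -/
def mU : SL7 := ⟨!![0, 1; -1, -1], by decide⟩
/-- an element of order 4 inverting it -/
def mV : SL7 := ⟨!![1, 4; 3, 6], by decide⟩

theorem mU3 : mU ^ 3 = 1 := by decide +kernel

theorem order_mU : orderOf (QuotientGroup.mk mU : PSL7) = 3 := by
  have : Fact (Nat.Prime 3) := ⟨Nat.prime_three⟩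
  refine orderOf_eq_prime ?_ ?_
  · rw [← QuotientGroup.mk_pow, mU3]; rfl
  · intro h
    rw [QuotientGroup.eq_one_iff, Matrix.SpecialLinearGroup.mem_center_iff] at h
    obtain ⟨r, -, h⟩ := h
    have h1 := congrFun (congrFun h 0) 1
    revert h1
    revert r
    decide +kernel

theorem sr_mU : SR (QuotientGroup.mk mU : PSL7) := by
  refine ⟨QuotientGroup.mk mV, ?_, ?_⟩
  · rw [← QuotientGroup.mk_mul, QuotientGroup.eq_one_iff, Matrix.SpecialLinearGroup.mem_center_iff]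
    refine ⟨-1, by decide, ?_⟩
    decide +kernel
  · rw [← QuotientGroup.mk_inv, ← QuotientGroup.mk_mul, ← QuotientGroup.mk_mul, ← QuotientGroup.mk_inv]
    congr 1
    have h : mV * mU = mU⁻¹ * mV := by decide +kernel
    rw [h, mul_inv_cancel_right]

theorem sr_psl7 {y : PSL7} (hy : y ^ 3 = 1) : SR y := by
  have hF : Fact (Nat.Prime 7) := ⟨by norm_num⟩
  have : Fact (Nat.Prime 3) := ⟨Nat.prime_three⟩
  have h3 : Nat.card PSL7 = 168 := Cfsg.Agent.SmallSimple.PSLFacts.card_psl_two_seven (ZMod.card 7)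
  by_cases h1 : y = 1
  · rw [h1]; exact ⟨1, mul_one 1, by simp⟩
  · exact sr_of_not_sq Nat.prime_three (by rw [h3]; norm_num) order_mU (orderOf_eq_prime hy h1) sr_mU

theorem sr_a5 : ∀ σ : alternatingGroup (Fin 5), ∃ τ : alternatingGroup (Fin 5), τ * τ = 1 ∧ τ * σ = σ⁻¹ * τ := by
  decide +kernel

theorem sr_alt (σ : alternatingGroup (Fin 5)) : SR σ := by
  obtain ⟨τ, h1, h2⟩ := sr_a5 σ
  exact ⟨τ, h1, by rw [h2, mul_inv_cancel_right]⟩

end seven

/-! ### The Monster -/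

theorem sr_iso {G H : Type*} [Group G] [Group H] (e : G ≃* H) {x : G} (h : SR (e x)) : SR x := by
  have h1 := sr_hom e.symm.toMonoidHom h
  have h2 : e.symm.toMonoidHom (e x) = x := e.symm_apply_apply x
  rwa [h2] at h1

theorem mk_cube {G : Type*} [Group G] {w U : G} (hU : orderOf U = 3) (hc : U * w = w * U) : (mk w hc : XX w) ^ 3 = 1 := by
  have h1 : (⟨U, mem_centralizer_singleton_iff.2 hc⟩ : ↥(centralizer ({w} : Set G))) ^ 3 = 1 :=
    Subtype.ext (by show U ^ 3 = 1; rw [← hU, pow_orderOf_eq_one])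
  show (QuotientGroup.mk _ : XX w) ^ 3 = 1
  rw [← QuotientGroup.mk_pow, h1]; rfl

theorem exists_of_dvd {U : MG} {p : ℕ} (hp : p.Prime) (hd : p ∣ Nat.card (XX U)) :
    ∃ y : MG, orderOf y = p ∧ U * y = y * U := by
  have hfin : Finite MG := BpSpor.MBigModel.finite
  have hF : Fact p.Prime := ⟨hp⟩
  have h1 : p ∣ Nat.card ↥(centralizer ({U} : Set MG)) :=
    hd.trans (Nat.card_congr (Equiv.refl _) ▸ Subgroup.card_quotient_dvd_card (Zx U))
  obtain ⟨y, hy⟩ := exists_prime_orderOf_dvd_card' (G := ↥(centralizer ({U} : Set MG))) p h1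
  exact ⟨y, by rw [Subgroup.orderOf_coe, hy], (mem_centralizer_singleton_iff.1 y.2).symm⟩

/-- order 17 -/
theorem sr_seventeen (h3 : H715.Mon.Grp.SThree.{0}) {U : MG} (hU : orderOf U = 3) (hd : 17 ∣ Nat.card (XX U)) : SR U := by
  obtain ⟨y, hy, hc⟩ := exists_of_dvd (by norm_num) hd
  obtain ⟨e⟩ := H715.Mon.Norm.iso17 h3 hy
  refine sr_lift (by norm_num) (by norm_num) (by norm_num) hy hU hc (sr_iso e (sr_psl7 ?_))
  rw [← map_pow, mk_cube hU hc, map_one]

/-- order 19 -/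
theorem sr_nineteen (h3 : H715.Mon.Grp.SThree.{0}) {U : MG} (hU : orderOf U = 3) (hd : 19 ∣ Nat.card (XX U)) : SR U := by
  obtain ⟨y, hy, hc⟩ := exists_of_dvd (by norm_num) hd
  obtain ⟨e⟩ := H715.Mon.Exact.iso19 h3 hy
  exact sr_lift (by norm_num) (by norm_num) (by norm_num) hy hU hc (sr_iso e (sr_alt _))

/-- order 11, in `C(z)` -/
theorem sr_eleven {w : ↥(centralizer ({zz} : Set MG))} (hw : orderOf w = 11) {U : MG} (hU : orderOf U = 3)
    (hc : U * (w : MG) = w * U) : SR U := by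
  have hfin : Finite MG := BpSpor.MBigModel.finite
  obtain ⟨x₀, hx₀, hpx⟩ := H800.ME.Final.exists_x
  have hxo : orderOf (x₀ : MG) = 11 := by rw [Subgroup.orderOf_coe, hx₀]
  obtain ⟨e⟩ := H800.ME.Twelve.iso chart hx₀ hpx (H800.ME.Final.dvd_XX hxo)
  obtain ⟨k, hk⟩ := CpAutON.Gen.conj_into (p := 11) (BpSpor.MBigModel.not_sq (Or.inl rfl) orderOf_zz) hx₀ hw
  obtain ⟨i, hi⟩ := mem_zpowers_iff.1 hk
  have hi' : (w : MG) ^ i = (k : MG) * (x₀ : MG) * (k : MG)⁻¹ := by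
    have h := congrArg Subtype.val hi
    push_cast at h
    exact h
  have h1 : Commute U ((k : MG) * (x₀ : MG) * (k : MG)⁻¹) := by
    rw [← hi']
    exact (show Commute U (w : MG) from hc).zpow_right i
  have h2 : ((k : MG)⁻¹ * U * k) * (x₀ : MG) = x₀ * ((k : MG)⁻¹ * U * k) := by
    calc ((k : MG)⁻¹ * U * k) * (x₀ : MG) = (k : MG)⁻¹ * (U * (k * x₀ * (k : MG)⁻¹)) * k := by group
      _ = (k : MG)⁻¹ * ((k * x₀ * (k : MG)⁻¹) * U) * k := by rw [h1.eq]
      _ = x₀ * ((k : MG)⁻¹ * U * k) := by group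
  have h3 : orderOf ((k : MG)⁻¹ * U * k) = 3 := by
    rw [← hU]
    have := MulEquiv.orderOf_eq (MulAut.conj (k : MG)⁻¹) U
    rwa [MulAut.conj_apply, inv_inv] at this
  have h4 : SR ((k : MG)⁻¹ * U * k) := by
    refine sr_lift (by norm_num) (by norm_num) (by norm_num) hxo h3 h2 (sr_iso e ?_)
    exact MTwelve.sr12 _ (by rw [← map_pow, mk_cube h3 h2, map_one])
  have h5 := SR.conj h4 (k : MG)
  have h6 : (k : MG) * ((k : MG)⁻¹ * U * k) * (k : MG)⁻¹ = U := by group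
  rwa [h6] at h5

/-- **fixed rank 0** -/
theorem sr_zero {x : centralizer ({zz} : Set MG)} (hx : orderOf x = 3) (hfr : fr (pi x) = 1) : SR (x : MG) := by
  have hfin : Finite MG := BpSpor.MBigModel.finite
  have hF : Fact (Nat.Prime 11) := ⟨by norm_num⟩
  have hx3 : x ^ 3 = 1 := by rw [← hx, pow_orderOf_eq_one]
  obtain ⟨e⟩ := inputs.suz _ (orderOf_pi chart hx) hfr
  have hf := toXX_surj chart hx3
  have h1 : 11 ∣ Nat.card (XX (pi x)) := by
    rw [Nat.card_congr e.toEquiv, Cfsg.Agent.S1694.result.2]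
    norm_num
  have h2 : 11 ∣ Nat.card ↥(centralizer ({zD x} : Set ↥(centralizer ({(x : MG)} : Set MG)))) :=
    h1.trans (Subgroup.card_dvd_of_surjective _ hf)
  obtain ⟨w, hw⟩ := exists_prime_orderOf_dvd_card' 11 h2
  let w' : ↥(centralizer ({zz} : Set MG)) := ⟨((w : ↥(centralizer ({(x : MG)} : Set MG))) : MG),
    mem_centralizer_singleton_iff.2 (congrArg Subtype.val (mem_centralizer_singleton_iff.1 w.2))⟩
  have hw' : orderOf w' = 11 := by
    rw [← Subgroup.orderOf_coe]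
    show orderOf ((w : ↥(centralizer ({(x : MG)} : Set MG))) : MG) = 11
    rw [Subgroup.orderOf_coe, Subgroup.orderOf_coe, hw]
  exact sr_eleven hw' (by rw [Subgroup.orderOf_coe, hx]) (mem_centralizer_singleton_iff.1 w.1.2).symm

theorem sr_in_z (h3 : H715.Mon.Grp.SThree.{0}) {x : centralizer ({zz} : Set MG)} (hx : orderOf x = 3) : SR (x : MG) := by
  have hfin : Finite MG := BpSpor.MBigModel.finite
  have hs : IsSimpleGroup MG := BpSpor.MBigModel.simple
  have hxo : orderOf (x : MG) = 3 := by rw [Subgroup.orderOf_coe, hx]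
  rcases inputs.ranks (pi x) (orderOf_pi chart hx) with h1 | h1 | h1 | h1
  · exact sr_zero hx h1
  · obtain ⟨x₀, u, g, hx₀, hfr₀, huz, hux, hne, hg⟩ := hasPair
    obtain ⟨k, hk⟩ := conj_six chart trNe inputs.ranks inputs.six
      (fun x hx h2 => ⟨(good_of_inputs chart inputs hx h2 : Good.{0} _).simple,
        (good_of_inputs chart inputs hx h2 : Good.{0} _).nc⟩) hx₀ hfr₀ huz hux hne hg hx h1
    have h4 := SR.conj (sr_zero hx₀ hfr₀) k⁻¹
    rw [← hk] at h4
    have h5 : k⁻¹ * (k * (x : MG) * k⁻¹) * k⁻¹⁻¹ = x := by group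
    rwa [h5] at h4
  · obtain ⟨e⟩ := isoTh_of_inputs chart inputs hx h1
    exact sr_nineteen h3 hxo (by rw [Nat.card_congr e.toEquiv, Cfsg.Agent.S1700.result.2]; norm_num)
  · obtain ⟨e⟩ := isoFi_of_inputs chart inputs hx h1
    exact sr_seventeen h3 hxo (by rw [Nat.card_congr e.toEquiv, Cfsg.Agent.S1698.result.2]; norm_num)

/-- **Elements of order 3 of the Monster commuting with an involution are strongly real.** -/
theorem sr_three (h3 : H715.Mon.Grp.SThree.{0}) {U : MG} (hU : orderOf U = 3) (h : ∃ t, orderOf t = 2 ∧ t * U = U * t) :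
    SR U := by
  obtain ⟨t, ht, htU⟩ := h
  obtain ⟨g, hg⟩ := Cfsg.Agent.LThreeM.FiRow.exists_z_of_comm (x := U) (v := t) (by rw [← hU, pow_orderOf_eq_one])
    (by rw [← pow_two, ← ht, pow_orderOf_eq_one]) (by
      rintro rfl
      rw [orderOf_one] at ht
      norm_num at ht) htU.symm
  have h1 : (g⁻¹ * U * g) * zz = zz * (g⁻¹ * U * g) := by
    calc (g⁻¹ * U * g) * zz = g⁻¹ * (U * (g * zz * g⁻¹)) * g := by group
      _ = g⁻¹ * ((g * zz * g⁻¹) * U) * g := by rw [hg]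
      _ = zz * (g⁻¹ * U * g) := by group
  let x' : centralizer ({zz} : Set MG) := ⟨g⁻¹ * U * g, mem_centralizer_singleton_iff.2 h1⟩
  have h2 : g * (x' : MG) * g⁻¹ = U := by
    show g * (g⁻¹ * U * g) * g⁻¹ = U
    group
  have hx' : orderOf x' = 3 := by
    rw [← Subgroup.orderOf_coe, ← hU, ← h2]
    exact (orderOf_injective (MulAut.conj g).toMonoidHom (MulAut.conj g).injective (x' : MG)).symm
  have h4 := SR.conj (sr_in_z h3 hx') g
  rwa [h2] at h4

end Cfsg.Agent.H860.I4
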