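import Cfsg.Agent.H529.Inv.PairSieve

/-!
# S4171 (and S2443), sporadic rows: the pair lemma with weights, the projection on the principal blocks (helper860)

`P` a Sylow `p`-subgroup of prime order, `C(P) = P × K`, `u ∈ P`, `u ≠ 1`. The weights `1 / |K|` on the elements `u v`, `v ∈ K`, give
`(1 / |K|) ∑ χ (u v) = part 1 χ u`: this is `0` unless `χ` lies over the trivial character of `K` (then `χ(1) ≡ ± 1` or `± e` modulo
`p`), and `∑_χ |part 1 χ u|² = p`.

* `exists_prd` : the pair lemma with weights on both sides;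
* `part_sq_le` : `|part θ χ u|² ≤ p - e_θ`;
* `sum_part_sq` : `∑ |part θ χ u|² = p`;
* `mod_of_part` : the residue of `χ(1)` if `part 1 χ u ≠ 0`;
* `i4_blocks` : the elements with `(m p - 1) (|C(g)| - 1) < d²` are products of four involutions, if all `u v` (`v ∈ K`) and all
  `w v` (`v ∈ L`, `q`-side) are strongly real, `|part 1 χ w|² ≤ m`, `d ≤ χ(1)` for `part 1 χ u ≠ 0 ≠ part 1 χ w`.
-/

set_option autoImplicit false

namespace Cfsg.Agent.H860.I4

open Cfsg Subgroup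
open Cfsg.Agent.Characters Cfsg.Agent.Characters.Core
open Cfsg.Agent.SmallSimple.ThetaSetup Cfsg.Agent.SmallSimple.ThetaOrtho
open Cfsg.Agent.SmallSimple.TheoremC Cfsg.Agent.SmallSimple.TheoremCCor
open Cfsg.Agent.SmallSimple.PrimeDual Cfsg.Agent.SmallSimple.ThetaCount
open Cfsg.Agent.H65.Ore (Prd one1)
open Cfsg.Agent.H854.Ore (SR)
open Cfsg.Agent.H529.Inv.Pair
open scoped ComplexConjugate

universe u

variable {G : Type u} [Group G] [Finite G]

/-- **The pair lemma with weights.** -/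
theorem exists_prd {ι κ : Type*} [Fintype ι] [Fintype κ] (x : ι → G) (y : κ → G) (a : ι → ℂ) (c : κ → ℂ) {g : G}
    (ha : ∑ i, a i = 1) (hc : ∑ j, c j = 1) [Fintype (IrrCharacter G)] {S d : ℝ} (hd0 : 0 < d)
    (hS : ∑ χ : IrrCharacter G, (‖∑ i, a i * (χ : G → ℂ) (x i)‖ * ‖∑ j, c j * (χ : G → ℂ) (y j)‖) ^ 2 ≤ S)
    (hd : ∀ χ : IrrCharacter G, (χ : G → ℂ) ≠ 1 → ∑ i, a i * (χ : G → ℂ) (x i) ≠ 0 →
      ∑ j, c j * (χ : G → ℂ) (y j) ≠ 0 → d ≤ ‖(χ : G → ℂ) 1‖)
    (h : (S - 1) * ((Nat.card (centralizer ({g} : Set G)) : ℝ) - 1) < d ^ 2) :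
    ∃ i j, a i ≠ 0 ∧ c j ≠ 0 ∧ Prd (x i) (y j) g := by
  classical
  by_contra hno
  push Not at hno
  obtain ⟨A, hA⟩ : ∃ A : IrrCharacter G → ℂ, ∀ χ, A χ = ∑ i, a i * (χ : G → ℂ) (x i) := ⟨_, fun _ => rfl⟩
  obtain ⟨F, hF⟩ : ∃ F : IrrCharacter G → ℂ, ∀ χ, F χ = ∑ j, c j * (χ : G → ℂ) (y j) := ⟨_, fun _ => rfl⟩
  simp only [← hA, ← hF] at hS hd
  -- the sum vanishes
  have h0 : ∑ χ : IrrCharacter G, A χ * F χ * conj ((χ : G → ℂ) g) / (χ : G → ℂ) 1 = 0 := by
    have h1 : ∀ i j, a i * c j * ∑ χ : IrrCharacter G,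
        (χ : G → ℂ) (x i) * (χ : G → ℂ) (y j) * conj ((χ : G → ℂ) g) / (χ : G → ℂ) 1 = 0 := by
      intro i j
      by_cases hi : a i = 0
      · rw [hi]; ring
      by_cases hj : c j = 0
      · rw [hj]; ring
      by_contra h2
      exact hno i j hi hj (H65.Ore.prd_of_ne_zero (right_ne_zero_of_mul h2))
    have h2 : ∑ χ : IrrCharacter G, A χ * F χ * conj ((χ : G → ℂ) g) / (χ : G → ℂ) 1 =
        ∑ i, ∑ j, a i * c j * ∑ χ : IrrCharacter G,
          (χ : G → ℂ) (x i) * (χ : G → ℂ) (y j) * conj ((χ : G → ℂ) g) / (χ : G → ℂ) 1 := by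
      have e1 : ∀ i j, a i * c j * ∑ χ : IrrCharacter G,
          (χ : G → ℂ) (x i) * (χ : G → ℂ) (y j) * conj ((χ : G → ℂ) g) / (χ : G → ℂ) 1 =
          ∑ χ : IrrCharacter G, (a i * (χ : G → ℂ) (x i)) * (c j * (χ : G → ℂ) (y j)) *
            (conj ((χ : G → ℂ) g) / (χ : G → ℂ) 1) := by
        intro i j
        rw [Finset.mul_sum]
        exact Finset.sum_congr rfl fun χ _ => by ring
      simp only [e1]
      have e2 : ∀ i, ∑ j, ∑ χ : IrrCharacter G, (a i * (χ : G → ℂ) (x i)) * (c j * (χ : G → ℂ) (y j)) *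
            (conj ((χ : G → ℂ) g) / (χ : G → ℂ) 1) =
          ∑ χ : IrrCharacter G, (a i * (χ : G → ℂ) (x i)) * F χ * (conj ((χ : G → ℂ) g) / (χ : G → ℂ) 1) := by
        intro i
        rw [Finset.sum_comm]
        refine Finset.sum_congr rfl fun χ _ => ?_
        rw [← Finset.sum_mul, ← Finset.mul_sum, hF]
      simp only [e2]
      rw [Finset.sum_comm]
      refine Finset.sum_congr rfl fun χ _ => ?_
      rw [← Finset.sum_mul, ← Finset.sum_mul, ← hA]
      ring
    rw [h2]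
    exact Finset.sum_eq_zero fun i _ => Finset.sum_eq_zero fun j _ => h1 i j
  have hA1 : A (one1 G) = 1 := by
    rw [hA]
    simp only [H65.Ore.one1_apply, mul_one]
    exact ha
  have hF1 : F (one1 G) = 1 := by
    rw [hF]
    simp only [H65.Ore.one1_apply, mul_one]
    exact hc
  rw [← Finset.add_sum_erase Finset.univ _ (Finset.mem_univ (one1 G))] at h0 hS
  simp only [hA1, hF1, H65.Ore.one1_apply, norm_one, mul_one, map_one, div_one, one_pow] at h0 hS
  have h1 : ∑ χ ∈ Finset.univ.erase (one1 G), A χ * F χ * conj ((χ : G → ℂ) g) / (χ : G → ℂ) 1 = -1 := by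
    linear_combination h0
  have h2 := norm_sum_le (Finset.univ.erase (one1 G))
    (fun χ : IrrCharacter G => A χ * F χ * conj ((χ : G → ℂ) g) / (χ : G → ℂ) 1)
  rw [h1, norm_neg, norm_one] at h2
  have h3 : ∑ χ ∈ Finset.univ.erase (one1 G), ‖A χ * F χ * conj ((χ : G → ℂ) g) / (χ : G → ℂ) 1‖ ≤
      (∑ χ ∈ Finset.univ.erase (one1 G), (‖A χ‖ * ‖F χ‖) * ‖(χ : G → ℂ) g‖) / d := by
    rw [Finset.sum_div]
    refine Finset.sum_le_sum fun χ hχ => ?_
    rw [norm_div, norm_mul, norm_mul, Complex.norm_conj]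
    by_cases h4 : A χ = 0
    · rw [h4, norm_zero]; simp
    by_cases h5 : F χ = 0
    · rw [h5, norm_zero]; simp
    exact div_le_div_of_nonneg_left (by positivity) hd0
      (hd χ (H65.Ore.coe_ne_one (Finset.ne_of_mem_erase hχ)) h4 h5)
  have h4 := Finset.sum_mul_sq_le_sq_mul_sq (Finset.univ.erase (one1 G)) (fun χ : IrrCharacter G => ‖A χ‖ * ‖F χ‖)
    (fun χ : IrrCharacter G => ‖(χ : G → ℂ) g‖)
  rw [H65.Ore.sum_erase_sq] at h4
  have hcg : (0 : ℝ) ≤ (Nat.card (centralizer ({g} : Set G)) : ℝ) - 1 := by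
    have : (1 : ℝ) ≤ (Nat.card (centralizer ({g} : Set G)) : ℝ) := by
      exact_mod_cast (Nat.card_pos : 0 < Nat.card (centralizer ({g} : Set G)))
    linarith
  have h5 : ∑ χ ∈ Finset.univ.erase (one1 G), (‖A χ‖ * ‖F χ‖) ^ 2 ≤ S - 1 := by linarith
  have h6 := (h4.trans (mul_le_mul_of_nonneg_right h5 hcg)).trans_lt h
  have h7 : ∑ χ ∈ Finset.univ.erase (one1 G), (‖A χ‖ * ‖F χ‖) * ‖(χ : G → ℂ) g‖ < d :=
    lt_of_pow_lt_pow_left₀ 2 hd0.le h6
  have h8 : (∑ χ ∈ Finset.univ.erase (one1 G), (‖A χ‖ * ‖F χ‖) * ‖(χ : G → ℂ) g‖) / d < 1 := by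
    rwa [div_lt_one hd0]
  linarith

/-! ### One block -/

section block

variable {p : ℕ} [hp : Fact p.Prime] {P : Sylow p G} {K : Subgroup G}

/-- `∑ |part θ χ u|² = p` -/
theorem sum_part_sq [Fintype (IrrCharacter G)] (hK : IsComp p (P : Subgroup G) K) (hP : Nat.card P = p) {θ : K → ℂ}
    (hθ : IsIrrCharacter K θ) {u : P} (hu : u ≠ 1) :
    ∑ χ : IrrCharacter G, ‖part θ (χ : G → ℂ) u‖ ^ 2 = p := by
  have h1 := sum_part_self hK hP hθ hu hu
  rw [if_pos ⟨1, one_mem _, rfl⟩] at h1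
  have h2 : ((∑ χ : IrrCharacter G, ‖part θ (χ : G → ℂ) u‖ ^ 2 : ℝ) : ℂ) = (p : ℝ) := by
    rw [Complex.ofReal_sum]
    push_cast
    rw [← h1]
    refine Finset.sum_congr rfl fun χ _ => ?_
    rw [Complex.mul_conj, Complex.normSq_eq_norm_sq]
    push_cast
    ring
  exact_mod_cast h2

/-- **The values in a block.** -/
theorem part_sq_le (hK : IsComp p (P : Subgroup G) K) (hP : Nat.card P = p) {θ : K → ℂ} (hθ : IsIrrCharacter K θ)
    {e t : ℕ} (he : Nat.card (stabAct hK θ) = e) (ht : e * t = p - 1) (χ : IrrCharacter G) {u : P} (hu : u ≠ 1) :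
    ‖part θ (χ : G → ℂ) u‖ ^ 2 ≤ ((p - e : ℕ) : ℝ) := by
  classical
  have hfin : Finite (IrrCharacter G) := finite_irr
  have := Fintype.ofFinite (IrrCharacter G)
  have hpe : e < p := by
    have h2 := hp.out.two_le
    rcases Nat.eq_zero_or_pos t with h3 | h3
    · rw [h3, mul_zero] at ht; omega
    · have : e * 1 ≤ e * t := Nat.mul_le_mul_left e h3
      omega
  have h1 : (1 : ℝ) ≤ ((p - e : ℕ) : ℝ) := by exact_mod_cast (by omega : 1 ≤ p - e)
  obtain ⟨NE, X, ε, d, S, hB, hdis, hNE, hX, hε, hd, hval, hvalX, -, -, -⟩ := theoremC hK hP hθ he ht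
  by_cases hO : χ ∈ Over P θ
  · rcases (hB χ).1 hO with h | h
    · rw [hval χ h u hu]
      rcases hε χ h with h2 | h2 <;> rw [h2] <;> simpa using h1
    · have hs := sum_part_sq hK hP hθ hu
      have h2 : ∑ ψ ∈ NE, ‖part θ (ψ : G → ℂ) u‖ ^ 2 = e := by
        rw [← hNE, Finset.card_eq_sum_ones, Nat.cast_sum]
        refine Finset.sum_congr rfl fun ψ hψ => ?_
        rw [hval ψ hψ u hu]
        rcases hε ψ hψ with h3 | h3 <;> rw [h3] <;> simp
      have h3 : χ ∉ NE := fun h4 => Finset.disjoint_left.1 hdis h4 h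
      have h4 : ∑ ψ ∈ insert χ NE, ‖part θ (ψ : G → ℂ) u‖ ^ 2 ≤ p := by
        rw [← hs]
        exact Finset.sum_le_univ_sum_of_nonneg fun _ => sq_nonneg _
      rw [Finset.sum_insert h3, h2] at h4
      rw [Nat.cast_sub hpe.le]
      linarith
  · rw [part_eq_zero hO hu, norm_zero]
    norm_num

/-- the part at the trivial character is the mean of the values on `u K` -/
theorem part_one_eq [Fintype K] (χ : G → ℂ) (x : G) :
    part (1 : K → ℂ) χ x = ∑ v : K, ((Nat.card K : ℂ)⁻¹) * χ (x * v) := by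
  rw [part_eq, Finset.mul_sum]
  refine Finset.sum_congr rfl fun v _ => ?_
  rw [Pi.one_apply, map_one, mul_one]

theorem weights_one [Fintype K] : ∑ _v : K, ((Nat.card K : ℂ)⁻¹) = 1 := by
  rw [Finset.sum_const, Finset.card_univ, ← Nat.card_eq_fintype_card, nsmul_eq_mul]
  have : (Nat.card K : ℂ) ≠ 0 := by exact_mod_cast Nat.card_pos.ne'
  field_simp

theorem tw_one_eq (hK : IsComp p (P : Subgroup G) K) {n : G} (hn : n ∈ normalizer ((P : Subgroup G) : Set G)) :
    tw (1 : K → ℂ) n = 1 := by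
  funext y
  rw [tw_apply hK _ hn]
  rfl

theorem card_stab_one (hK : IsComp p (P : Subgroup G) K) (hP : Nat.card P = p) {e : ℕ}
    (he : (centralizer ((P : Subgroup G) : Set G)).relIndex (normalizer ((P : Subgroup G) : Set G)) = e) :
    Nat.card (stabAct hK (1 : K → ℂ)) = e := by
  rw [card_stabAct_of_stable hK hP isIrr_one fun n hn => tw_one_eq hK hn, he]

/-- **The residue of the degree** of a character with nonzero principal part. -/
theorem mod_of_part (hK : IsComp p (P : Subgroup G) K) (hP : Nat.card P = p) {e t : ℕ}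
    (he : (centralizer ((P : Subgroup G) : Set G)).relIndex (normalizer ((P : Subgroup G) : Set G)) = e)
    (ht : e * t = p - 1) {χ : IrrCharacter G} {u : P} (hu : u ≠ 1) (h0 : part (1 : K → ℂ) (χ : G → ℂ) u ≠ 0) :
    charDegree (χ : G → ℂ) % p ∈ [1, p - 1, e, p - e] := by
  classical
  have hp2 := hp.out.two_le
  obtain ⟨s, hs, h1⟩ := deg_of_over hK hP he ht ⟨1, isIrr_one⟩ ⟨u, hu, h0⟩
  have h2 : (orb P K ((⟨1, isIrr_one⟩ : IrrCharacter K) : K → ℂ)).card = 1 := by
    rw [orb_of_stable isIrr_one fun n hn => tw_one_eq hK hn, Finset.card_singleton]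
  have h3 : charDegree ((⟨1, isIrr_one⟩ : IrrCharacter K) : K → ℂ) = 1 := by
    unfold charDegree
    simp
  rw [h2, h3] at h1
  have hpe : e < p := by
    rcases Nat.eq_zero_or_pos t with h3 | h3
    · rw [h3, mul_zero] at ht; omega
    · have : e * 1 ≤ e * t := Nat.mul_le_mul_left e h3
      omega
  have he0 : 0 < e := by
    rcases Nat.eq_zero_or_pos e with h3 | h3
    · rw [h3, zero_mul] at ht; omega
    · exact h3
  rcases h1 with h1 | h1
  · rcases hs with rfl | rfl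
    · rw [mod_of_dvd_sub' (a := 1) (by push_cast at h1 ⊢; simpa using h1), Nat.mod_eq_of_lt (by omega)]
      simp
    · rw [mod_of_dvd_sub'' (a := 1) (by push_cast at h1 ⊢; simpa using h1), Nat.mod_eq_of_lt (by omega : 1 < p),
        Nat.mod_eq_of_lt (by omega)]
      simp
  · rcases hs with rfl | rfl
    · rw [mod_of_dvd_sub' (a := e) (by push_cast at h1 ⊢; simpa using h1), Nat.mod_eq_of_lt hpe]
      simp
    · rw [mod_of_dvd_sub'' (a := e) (by push_cast at h1 ⊢; simpa using h1), Nat.mod_eq_of_lt hpe,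
        Nat.mod_eq_of_lt (by omega)]
      simp

end block

/-! ### Two blocks -/

/-- **The pair lemma for the principal blocks of two exact primes.** -/
theorem i4_blocks {p q : ℕ} [hp : Fact p.Prime] [Fact q.Prime] {P : Sylow p G} {K : Subgroup G} {Q : Sylow q G}
    {L : Subgroup G} (hK : IsComp p (P : Subgroup G) K) (hP : Nat.card P = p) {u : P} (hu : u ≠ 1)
    {w : Q} (hsr : ∀ v : K, SR ((u : G) * v)) (hsr' : ∀ v : L, SR ((w : G) * v))
    {m c d : ℕ} (hm : ∀ χ : IrrCharacter G, ‖part (1 : L → ℂ) (χ : G → ℂ) w‖ ^ 2 ≤ (m : ℝ))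
    (hd : ∀ χ : IrrCharacter G, (χ : G → ℂ) ≠ 1 → part (1 : K → ℂ) (χ : G → ℂ) u ≠ 0 →
      part (1 : L → ℂ) (χ : G → ℂ) w ≠ 0 → d ≤ charDegree (χ : G → ℂ))
    (hnum : (m * p - 1) * (c - 1) < d ^ 2) {g : G} (hg : Nat.card (centralizer ({g} : Set G)) ≤ c) :
    H777.Ore.I4 g := by
  classical
  have hfin : Finite (IrrCharacter G) := finite_irr
  have := Fintype.ofFinite (IrrCharacter G)
  have := Fintype.ofFinite K
  have := Fintype.ofFinite L
  have hd0 : 0 < d := by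
    rcases Nat.eq_zero_or_pos d with h | h
    · rw [h] at hnum; simp at hnum
    · exact h
  have hm1 : (1 : ℝ) ≤ m := by
    have h1 := hm (one1 G)
    have h2 : part (1 : L → ℂ) ((one1 G : IrrCharacter G) : G → ℂ) w = 1 := by
      rw [part_one_eq]
      simp only [H65.Ore.one1_apply, mul_one]
      exact weights_one
    rw [h2, norm_one, one_pow] at h1
    exact h1
  have hm1' : 1 ≤ m := by exact_mod_cast hm1
  have hc : 1 ≤ c := le_trans Nat.card_pos hg
  obtain ⟨i, j, -, -, h⟩ := exists_prd (g := g) (fun v : L => (w : G) * v) (fun v : K => (u : G) * v)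
    (fun _ => ((Nat.card L : ℂ)⁻¹)) (fun _ => ((Nat.card K : ℂ)⁻¹)) weights_one weights_one
    (S := m * p) (d := d) (by exact_mod_cast hd0) (by
      simp only [← part_one_eq]
      calc ∑ χ : IrrCharacter G, (‖part (1 : L → ℂ) (χ : G → ℂ) w‖ * ‖part (1 : K → ℂ) (χ : G → ℂ) u‖) ^ 2
          ≤ ∑ χ : IrrCharacter G, (m : ℝ) * ‖part (1 : K → ℂ) (χ : G → ℂ) u‖ ^ 2 := by
            refine Finset.sum_le_sum fun χ _ => ?_
            rw [mul_pow]
            exact mul_le_mul_of_nonneg_right (hm χ) (sq_nonneg _)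
        _ = (m : ℝ) * p := by
            rw [← Finset.mul_sum, sum_part_sq hK hP isIrr_one hu]) (by
      intro χ h1 h2 h3
      rw [← part_one_eq] at h2 h3
      have h4 := hd χ h1 h3 h2
      rw [Blocks.Knorr.charDegree_eq χ.2, Complex.norm_natCast]
      exact_mod_cast h4) (by
      have h2 : (Nat.card (centralizer ({g} : Set G)) : ℝ) ≤ c := by exact_mod_cast hg
      have h3 : (1 : ℝ) ≤ (Nat.card (centralizer ({g} : Set G)) : ℝ) := by
        exact_mod_cast (Nat.card_pos : 0 < Nat.card (centralizer ({g} : Set G)))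
      have h4 : (((m * p - 1) * (c - 1) : ℕ) : ℝ) < ((d ^ 2 : ℕ) : ℝ) := by exact_mod_cast hnum
      have h5 : 1 ≤ m * p := Nat.mul_pos hm1' hp.out.pos
      rw [Nat.cast_mul, Nat.cast_sub h5, Nat.cast_sub hc] at h4
      push_cast at h4
      have h6 : (1 : ℝ) ≤ m * p := by exact_mod_cast h5
      calc ((m : ℝ) * p - 1) * ((Nat.card (centralizer ({g} : Set G)) : ℝ) - 1)
          ≤ ((m : ℝ) * p - 1) * ((c : ℝ) - 1) := mul_le_mul_of_nonneg_left (by linarith) (by linarith)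
        _ < _ := h4)
  exact i4_of_prd (hsr' i) (hsr j) h

end Cfsg.Agent.H860.I4
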