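import Cfsg.Agent.H455.RecBEleven

/-!
# The centralizer of an element of order 11 of the Baby Monster (helper860)

* `exists_hom` : `C(x) → S₅` onto with kernel `⟨x⟩`.
-/

set_option autoImplicit false
set_option maxRecDepth 100000

namespace Cfsg.Agent.H860.I4

open Cfsg Subgroup Cfsg.Agent.H58.Rec
open Cfsg.Agent.MonsterX Cfsg.Agent.MonsterX.MainBasic Cfsg.Agent.MonsterU
open Cfsg.Agent.BpSpor.MBigModel (MG zz chart card_M card_cent_z card_cent_t orderOf_zz zz_sq)
open Cfsg.Agent.CoThreeStd.MTwelve (inv_class card_cent_v card_cent_y cent_y w w_injective y_ne_w y_comm y_sq)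
open Cfsg.Agent.H393.Iso (exists_lift lift_comm)
open Cfsg.Agent.H455.RecB

/-- **The centralizer of an element of order 11.** -/
theorem exists_hom {x : Spor.BabyMonster} (hx : orderOf x = 11) :
    ∃ φ : ↥(centralizer ({x} : Set Spor.BabyMonster)) →* Equiv.Perm (Fin 5), Function.Surjective φ ∧
      ∀ g, φ g = 1 ↔ (g : Spor.BabyMonster) ∈ zpowers x := by
  have hfin := finMG
  obtain ⟨τ, q, b, F, hC, rfl, hb, hF, hk, hy⟩ := exists_data hx
  have hbo : orderOf (b : MG) = 11 := by rw [Subgroup.orderOf_coe, hb]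
  have hτm : τ ∈ centralizer ({(b : MG)} : Set MG) :=
    mem_centralizer_singleton_iff.2 (mem_centralizer_singleton_iff.1 b.2).symm
  have hττ : τ * τ = 1 := by rw [← pow_two, ← hC.ord, pow_orderOf_eq_one]
  set D : Subgroup ↥(centralizer ({(b : MG)} : Set MG)) := w.range.comap F with hD
  -- `D` commutes with `τ`
  have hDτ : ∀ g ∈ D, (g : MG) * τ = τ * g := by
    intro g hg
    obtain ⟨σ, hσ⟩ := hg
    set T : ↥(centralizer ({(b : MG)} : Set MG)) := ⟨τ, hτm⟩ with hT
    have h1 : F (T⁻¹ * (g * T * g⁻¹)) = 1 := by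
      rw [map_mul, map_mul, map_mul, map_inv, map_inv, hT, hy hτm, ← hσ, ← y_comm σ]
      group
    obtain ⟨i, hi⟩ := mem_zpowers_iff.1 ((hk _).1 h1)
    have h2 : (b : MG) ^ i = τ⁻¹ * (g * τ * (g : MG)⁻¹) := hi
    have h3 : (g : MG) * τ * (g : MG)⁻¹ = τ * (b : MG) ^ i := by rw [h2]; group
    have hτb : Commute τ ((b : MG) ^ i) := (show Commute τ (b : MG) from
      (mem_centralizer_singleton_iff.1 b.2).symm).zpow_right i
    have h7 : ((b : MG) ^ i) ^ 2 = 1 := by
      have h8 : ((g : MG) * τ * (g : MG)⁻¹) ^ 2 = 1 := by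
        rw [conj_pow, pow_two τ, hττ, mul_one, mul_inv_cancel]
      rw [h3, hτb.mul_pow, pow_two τ, hττ, one_mul] at h8
      exact h8
    have h8 : ((b : MG) ^ i) ^ 11 = 1 := by
      rw [← zpow_natCast, ← zpow_mul, mul_comm, zpow_mul, zpow_natCast, ← hbo, pow_orderOf_eq_one, one_zpow]
    have h9 : (b : MG) ^ i = 1 := by
      have h10 := Nat.dvd_gcd (orderOf_dvd_of_pow_eq_one h7) (orderOf_dvd_of_pow_eq_one h8)
      exact orderOf_eq_one_iff.1 (Nat.dvd_one.1 (h10.trans (by norm_num)))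
    rw [h9, mul_one] at h3
    exact mul_inv_eq_iff_eq_mul.1 h3
  let f : D →* w.range := F.subgroupComap w.range
  have hf : Function.Surjective f := by
    rintro ⟨y, hy⟩
    obtain ⟨g, rfl⟩ := hF y
    exact ⟨⟨g, hy⟩, rfl⟩
  -- `D` is isomorphic to `C(x)`
  have hqx : ∀ g : D, q ⟨((g : ↥(centralizer ({(b : MG)} : Set MG))) : MG),
      mem_centralizer_singleton_iff.2 (hDτ g g.2)⟩ * q b = q b * q ⟨((g : ↥(centralizer ({(b : MG)} : Set MG))) : MG),
      mem_centralizer_singleton_iff.2 (hDτ g g.2)⟩ := by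
    intro g
    rw [← map_mul, ← map_mul]
    congr 1
    exact Subtype.ext (mem_centralizer_singleton_iff.1 (g : ↥(centralizer ({(b : MG)} : Set MG))).2)
  let ψ : D →* ↥(centralizer ({τ} : Set MG)) :=
    ((centralizer ({(b : MG)} : Set MG)).subtype.comp D.subtype).codRestrict _ (fun g =>
      mem_centralizer_singleton_iff.2 (hDτ g g.2))
  let φ : D →* ↥(centralizer ({q b} : Set Spor.BabyMonster)) :=
    (q.comp ψ).codRestrict _ (fun g => mem_centralizer_singleton_iff.2 (hqx g))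
  have hφi : Function.Injective φ := by
    rw [injective_iff_map_eq_one]
    intro g hg
    have h3 : q (ψ g) = 1 := congrArg Subtype.val hg
    rcases (hC.ext.ker _).1 h3 with h4 | h4
    · have h5 : ((g : ↥(centralizer ({(b : MG)} : Set MG))) : MG) = 1 :=
        congrArg (fun z : ↥(centralizer ({τ} : Set MG)) => (z : MG)) h4
      exact Subtype.ext (Subtype.ext h5)
    · exfalso
      have h5 : ((g : ↥(centralizer ({(b : MG)} : Set MG))) : MG) = τ :=
        congrArg (fun z : ↥(centralizer ({τ} : Set MG)) => (z : MG)) h4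
      obtain ⟨σ, hσ⟩ := g.2
      have h6 : (g : ↥(centralizer ({(b : MG)} : Set MG))) = ⟨τ, hτm⟩ := Subtype.ext h5
      rw [h6, hy hτm] at hσ
      exact y_ne_w σ hσ.symm
  have hφs : Function.Surjective φ := by
    rintro ⟨v, hv⟩
    have hv' : q b * v = v * q b := (mem_centralizer_singleton_iff.1 hv).symm
    obtain ⟨a, rfl⟩ := hC.ext.surj v
    have hba : b * a = a * b := lift_comm hC.ext prime11 (by norm_num) hb hv'
    have ham : (a : MG) ∈ centralizer ({(b : MG)} : Set MG) :=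
      mem_centralizer_singleton_iff.2 (congrArg Subtype.val hba).symm
    have haτ : (a : MG) * τ = τ * a := mem_centralizer_singleton_iff.1 a.2
    set A : ↥(centralizer ({(b : MG)} : Set MG)) := ⟨a, ham⟩ with hA
    set T : ↥(centralizer ({(b : MG)} : Set MG)) := ⟨τ, hτm⟩ with hT
    have hAT : A * T = T * A := Subtype.ext haτ
    have h1 : F A * CoThreeStd.MTwelve.y = CoThreeStd.MTwelve.y * F A := by
      rw [← hy hτm, ← map_mul, ← map_mul, hAT]
    obtain ⟨σ, hσ⟩ := cent_y _ h1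
    rcases hσ with h | h
    · have hAD : A ∈ D := ⟨σ, h.symm⟩
      refine ⟨⟨A, hAD⟩, Subtype.ext ?_⟩
      show q (ψ ⟨A, hAD⟩) = q a
      congr 1
    · have hAD : A * T ∈ D := by
        refine ⟨σ, ?_⟩
        rw [map_mul, hT, hy hτm, h]
        have hyw : CoThreeStd.MTwelve.y * w σ = w σ * CoThreeStd.MTwelve.y := y_comm σ
        rw [hyw, mul_assoc, y_sq, mul_one]
      refine ⟨⟨A * T, hAD⟩, Subtype.ext ?_⟩
      show q (ψ ⟨A * T, hAD⟩) = q a
      have h2 : ψ ⟨A * T, hAD⟩ = a * ⟨τ, mem_centralizer_singleton_iff.2 rfl⟩ := Subtype.ext rfl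
      rw [h2, map_mul, hC.ext.mapz, mul_one]
  let e : D ≃* ↥(centralizer ({q b} : Set Spor.BabyMonster)) := MulEquiv.ofBijective φ ⟨hφi, hφs⟩
  let o : Equiv.Perm (Fin 5) ≃* w.range := MonoidHom.ofInjective w_injective
  refine ⟨(o.symm.toMonoidHom.comp f).comp e.symm.toMonoidHom,
    (o.symm.surjective.comp hf).comp e.symm.surjective, fun g => ?_⟩
  obtain ⟨d, rfl⟩ := e.surjective g
  have h1 : ((o.symm.toMonoidHom.comp f).comp e.symm.toMonoidHom) (e d) = o.symm (f d) := by
    show o.symm (f (e.symm (e d))) = _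
    rw [e.symm_apply_apply]
  rw [h1, MulEquiv.map_eq_one_iff]
  have h2 : f d = 1 ↔ F d = 1 := by
    rw [← Subtype.val_inj]
    rfl
  rw [h2, hk]
  have h3 : ((e d : ↥(centralizer ({q b} : Set Spor.BabyMonster))) : Spor.BabyMonster) = q (ψ d) := rfl
  rw [h3]
  constructor
  · intro h
    obtain ⟨i, hi⟩ := mem_zpowers_iff.1 h
    refine mem_zpowers_iff.2 ⟨i, ?_⟩
    rw [← map_zpow]
    congr 1
    exact Subtype.ext hi
  · intro h
    obtain ⟨i, hi⟩ := mem_zpowers_iff.1 h
    rw [← map_zpow] at hi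
    refine mem_zpowers_iff.2 ⟨i, ?_⟩
    -- `b ^ i ∈ D`
    have hm : (b : MG) ^ i ∈ centralizer ({(b : MG)} : Set MG) := by
      rw [mem_centralizer_singleton_iff]
      exact ((Commute.refl (b : MG)).zpow_left i)
    have hbD : (⟨(b : MG) ^ i, hm⟩ : ↥(centralizer ({(b : MG)} : Set MG))) ∈ D := by
      refine ⟨1, ?_⟩
      rw [map_one]
      exact ((hk _).2 (mem_zpowers_iff.2 ⟨i, rfl⟩)).symm
    have h4 : φ ⟨⟨(b : MG) ^ i, hm⟩, hbD⟩ = φ d := by
      apply Subtype.ext
      show q (ψ ⟨⟨(b : MG) ^ i, hm⟩, hbD⟩) = q (ψ d)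
      rw [← hi]
      congr 1
    have h5 := hφi h4
    have h6 := congrArg (fun z : D => ((z : ↥(centralizer ({(b : MG)} : Set MG))) : MG)) h5
    exact h6

end Cfsg.Agent.H860.I4
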