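import Cfsg.Agent.H860.I4.Real
import Cfsg.Agent.H860.I4.SFive
import Cfsg.Agent.H860.I4.BEleven
import Cfsg.Agent.H715.Mon.Norm
import Cfsg.Agent.H75.Ore.ThFour
import Cfsg.Agent.H954.DR.CentB
import Cfsg.Agent.H511.Ore.Tools
import Cfsg.Agent.H529.Inv.Coset
import Cfsg.Agent.H570.Ore.Blk

/-!
# S4171, row `B`: products of four involutions in the Baby Monster, elements with small centralizers (helper860)

The principal blocks of 11 (`C(u) = 11 × S₅`) and 19 (`C(x) = 19 × 2`), the columns 23, 31, 47: the degrees of the characters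
which are nonzero on both blocks are at least 1407462, so `10 (|C(g)| - 1) < 1407462²` is enough.

* `cent11` : `|C(x)| = 1320`;
* `exists_block`, `sr_block` : the data at 11;
* `sr19`, `sr_block19` : the data at 19;
* `i4_model`, `T1I_B` : `|C(g)| ≤ 198000000000`.
-/

set_option autoImplicit false
set_option maxRecDepth 100000

namespace Cfsg.Agent.H860.I4

open Cfsg Subgroup
open Cfsg.Agent.Characters Cfsg.Agent.Characters.Core
open Cfsg.Agent.SmallSimple.ThetaSetup Cfsg.Agent.SmallSimple.ThetaOrtho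
open Cfsg.Agent.SmallSimple.PrimeLocal
open Cfsg.Agent.H854.Ore (SR)
open Cfsg.Agent.H529.Inv.Pair
open Cfsg.Agent.H653.Sieve Cfsg.Agent.H651.Two Cfsg.Agent.H511.Ore
open Cfsg.Agent.H715.Mon.Grp Cfsg.Agent.H715.Mon.Exact Cfsg.Agent.H715.Mon.Norm

universe u

theorem card_b : Nat.card Spor.BabyMonster = 4154781481226426191177580544000000 :=
  NotCT.Orders.b ⟨MulEquiv.refl _⟩

theorem finite_b : Finite Spor.BabyMonster := Nat.finite_of_card_ne_zero (by rw [card_b]; norm_num)

theorem simple_b : IsSimpleGroup Spor.BabyMonster := Cfsg.Agent.S1704.result.1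

theorem nonab_b : ¬ IsMulCommutative Spor.BabyMonster := by
  have := finite_b
  have := simple_b
  intro h
  refine H253.TC.not_comm_of_card (K := Spor.BabyMonster) card_b (by norm_num) (p := 11) (by norm_num) (by norm_num)
    (by norm_num) ?_
  exact fun a b => h.is_comm.comm a b

/-! ### Order 11 -/

/-- **`|C(x)| = 1320`** -/
theorem cent11 {x : Spor.BabyMonster} (hx : orderOf x = 11) :
    Nat.card (centralizer ({x} : Set Spor.BabyMonster)) = 1320 := by
  obtain ⟨φ, hφ, hk⟩ := exists_hom hx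
  have h1 : Nat.card φ.ker = 11 := by
    have e : φ.ker ≃ zpowers x :=
      { toFun := fun g => ⟨(g : ↥(centralizer ({x} : Set Spor.BabyMonster))), (hk _).1 g.2⟩
        invFun := fun g => ⟨⟨g, by
          obtain ⟨i, hi⟩ := mem_zpowers_iff.1 g.2
          rw [mem_centralizer_singleton_iff, ← hi]
          exact (Commute.refl x).zpow_left i⟩, (hk _).2 g.2⟩
        left_inv := fun g => Subtype.ext (Subtype.ext rfl)
        right_inv := fun g => Subtype.ext rfl }
    rw [Nat.card_congr e, Nat.card_zpowers, hx]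
  have h2 := φ.ker.card_mul_index
  rw [Subgroup.index_ker, MonoidHom.range_eq_top.2 hφ, Subgroup.card_top, h1, Nat.card_eq_fintype_card,
    Fintype.card_perm, Fintype.card_fin] at h2
  rw [← h2]
  rfl

/-- **The block data at 11.** -/
theorem exists_block : ∃ (P : Sylow 11 Spor.BabyMonster) (K : Subgroup Spor.BabyMonster),
    IsComp 11 (P : Subgroup Spor.BabyMonster) K ∧ Nat.card P = 11 ∧
    (centralizer ((P : Subgroup Spor.BabyMonster) : Set Spor.BabyMonster)).relIndex
      (normalizer ((P : Subgroup Spor.BabyMonster) : Set Spor.BabyMonster)) = 10 ∧ Nonempty (K ≃* Equiv.Perm (Fin 5)) := by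
  have := finite_b
  have hp : Fact (Nat.Prime 11) := ⟨by norm_num⟩
  obtain ⟨P⟩ : Nonempty (Sylow 11 Spor.BabyMonster) := inferInstance
  have hP : Nat.card P = 11 := card_of_not_sq_dvd (by rw [card_b]; norm_num) (by rw [card_b]; norm_num) P
  obtain ⟨K, hK⟩ := exists_isComp P hP
  have hrel := (relIndex_eq (G := Spor.BabyMonster) (p := 11) (c := 1320) (e := 10) (by norm_num)
    (by rw [card_b]; norm_num) (fun x hx => cent11 hx) (by norm_num) (by rw [card_b]) (P := (P : Subgroup _)) hP).1
  refine ⟨P, K, hK, hP, hrel, ?_⟩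
  obtain ⟨x, hx, hPx, hCx⟩ := cent_eq (G := Spor.BabyMonster) (p := 11) (by norm_num) (P := (P : Subgroup _)) hP
  obtain ⟨φ, hφ, hk⟩ := exists_hom hx
  have hKc : Nat.card K = 120 := by
    have h1 := SmallSimple.ThetaOrtho.card_centralizer hK hP
    rw [hCx, cent11 hx] at h1
    omega
  have hKx : ∀ y : K, (y : Spor.BabyMonster) ∈ centralizer ({x} : Set Spor.BabyMonster) := by
    intro y
    rw [← hCx]
    exact hK.le y.2
  let f : K →* Equiv.Perm (Fin 5) :=
    φ.comp ((Subgroup.subtype K).codRestrict (centralizer ({x} : Set Spor.BabyMonster)) hKx)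
  have hf : Function.Injective f := by
    rw [injective_iff_map_eq_one]
    intro y hy
    have h1 : (y : Spor.BabyMonster) ∈ zpowers x := (hk _).1 hy
    rw [← hPx] at h1
    have h2 := hK.disjoint hP h1 y.2
    exact Subtype.ext h2
  have hb : Function.Bijective f := by
    rw [Nat.bijective_iff_injective_and_card]
    refine ⟨hf, ?_⟩
    rw [hKc, Nat.card_eq_fintype_card, Fintype.card_perm, Fintype.card_fin]
    rfl
  exact ⟨MulEquiv.ofBijective f hb⟩

/-- **Strong reality at 11.** -/
theorem sr_block {P : Sylow 11 Spor.BabyMonster} {K : Subgroup Spor.BabyMonster}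
    (hK : IsComp 11 (P : Subgroup Spor.BabyMonster) K) (hP : Nat.card P = 11)
    (hrel : (centralizer ((P : Subgroup Spor.BabyMonster) : Set Spor.BabyMonster)).relIndex
      (normalizer ((P : Subgroup Spor.BabyMonster) : Set Spor.BabyMonster)) = 10) (e : K ≃* Equiv.Perm (Fin 5))
    (u : P) (v : K) : SR ((u : Spor.BabyMonster) * v) := by
  have := finite_b
  have hp : Fact (Nat.Prime 11) := ⟨by norm_num⟩
  obtain ⟨n, hn, hnK, hnP⟩ := exists_inverter (by norm_num) hK hP (by rw [hrel]; norm_num) (fun n hn => by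
      obtain ⟨σ, hσ⟩ := SFive.inner ((e.symm.trans (cK hK hn)).trans e)
      refine ⟨(e.symm σ : K), (e.symm σ).2, fun y hy => ?_⟩
      have h1 := hσ (e ⟨y, hy⟩)
      have h2 : ((e.symm.trans (cK hK hn)).trans e) (e ⟨y, hy⟩) = e (cK hK hn ⟨y, hy⟩) := by
        show e (cK hK hn (e.symm (e ⟨y, hy⟩))) = _
        rw [e.symm_apply_apply]
      rw [h2] at h1
      have h3 : cK hK hn ⟨y, hy⟩ = e.symm σ * ⟨y, hy⟩ * (e.symm σ)⁻¹ := by
        apply e.injective
        rw [h1, map_mul, map_mul, map_inv, e.apply_symm_apply]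
      exact congrArg Subtype.val h3) (fun z hz hzy => by
      have h1 : ∀ τ : Equiv.Perm (Fin 5), e ⟨z, hz⟩ * τ = τ * e ⟨z, hz⟩ := by
        intro τ
        obtain ⟨y, rfl⟩ := e.surjective τ
        rw [← map_mul, ← map_mul]
        congr 1
        exact Subtype.ext (hzy y y.2)
      have h2 := SFive.center _ (h1 _) (h1 _)
      rw [MulEquiv.map_eq_one_iff] at h2
      exact congrArg Subtype.val h2)
  refine sr_mul hK hn hnK hnP u v.2 ?_
  obtain ⟨τ, h1, h2⟩ := SFive.sr_all (e v)
  refine ⟨(e.symm τ : K), (e.symm τ).2, ?_, ?_⟩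
  · rw [← Subgroup.coe_mul, ← map_mul, h1, map_one, Subgroup.coe_one]
  · have h3 : e.symm τ * v = v⁻¹ * e.symm τ := by
      apply e.injective
      rw [map_mul, map_mul, map_inv, e.apply_symm_apply]
      exact h2
    exact congrArg Subtype.val h3

/-! ### Order 19 -/

theorem sr_map {G H : Type*} [Group G] [Group H] (f : G →* H) {x : G} (h : SR x) : SR (f x) := by
  obtain ⟨t, ht, hx⟩ := h
  exact ⟨f t, by rw [← map_mul, ht, map_one], by rw [← map_inv, ← map_mul, ← map_mul, hx, map_inv]⟩

/-- **elements of order 19 are inverted by an involution** -/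
theorem sr19 (h3 : SThree.{0}) {x : Spor.BabyMonster} (hx : orderOf x = 19) : SR x := by
  obtain ⟨f, hf⟩ := H174.Ore.Th.exists_emb
  obtain ⟨y, hy⟩ := H174.Ore.Th.exists_ord (r := 19) (by norm_num) (by norm_num)
  have h1 : SR (f y) := sr_map f (H75.Ore.ThFour.real19 hy)
  have h2 : orderOf (f y) = 19 := by rw [orderOf_injective f hf, hy]
  obtain ⟨c, hc⟩ := isConj_iff.1 (B.conj19 h3 ⟨MulEquiv.refl _⟩ h2 hx)
  rw [← hc]
  exact SR.conj h1 c

theorem sr_block19 (h3 : SThree.{0}) {Q : Sylow 19 Spor.BabyMonster} {L : Subgroup Spor.BabyMonster}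
    (hL : IsComp 19 (Q : Subgroup Spor.BabyMonster) L) (hQ : Nat.card Q = 19) (hL2 : Nat.card L = 2)
    {w : Q} (hw : w ≠ 1) (v : L) : SR ((w : Spor.BabyMonster) * v) := by
  have := finite_b
  have hp : Fact (Nat.Prime 19) := ⟨by norm_num⟩
  have hwo : orderOf (w : Spor.BabyMonster) = 19 := by
    refine orderOf_eq_prime ?_ fun h => hw (Subtype.ext h)
    have h1 := Subgroup.orderOf_dvd_natCard (Q : Subgroup Spor.BabyMonster) w.2
    rw [show Nat.card (Q : Subgroup Spor.BabyMonster) = 19 from hQ] at h1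
    exact orderOf_dvd_iff_pow_eq_one.1 h1
  obtain ⟨t, ht, htw⟩ := sr19 h3 hwo
  have hQw : (Q : Subgroup Spor.BabyMonster) = zpowers (w : Spor.BabyMonster) := by
    symm
    refine Subgroup.eq_of_le_of_card_ge (by rw [zpowers_le]; exact w.2) ?_
    rw [Nat.card_zpowers, hwo]
    exact hQ.le
  have htQ : t ∈ normalizer ((Q : Subgroup Spor.BabyMonster) : Set Spor.BabyMonster) := by
    rw [hQw, mem_normalizer_iff]
    intro g
    have key : ∀ g ∈ zpowers (w : Spor.BabyMonster), t * g * t⁻¹ ∈ zpowers (w : Spor.BabyMonster) := by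
      rintro _ ⟨i, rfl⟩
      refine mem_zpowers_iff.2 ⟨-i, ?_⟩
      show _ = t * (w : Spor.BabyMonster) ^ i * t⁻¹
      rw [← conj_zpow, htw, inv_zpow, zpow_neg]
    refine ⟨key g, fun h => ?_⟩
    have h1 := key _ h
    have h2 : t * (t * g * t⁻¹) * t⁻¹ = g := by
      calc t * (t * g * t⁻¹) * t⁻¹ = (t * t) * g * (t * t)⁻¹ := by group
        _ = g := by rw [ht]; group
    rwa [h2] at h1
  have htv : t * v * t⁻¹ = v := H570.Ore.Blk.conj_fix hL hL2.le htQ v
  have hvv : (v : Spor.BabyMonster) * v = 1 := by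
    have h1 := pow_card_eq_one' (x := v)
    rw [hL2, pow_two] at h1
    exact congrArg Subtype.val h1
  refine SR.mul_of (j := t) (hL.comm w.2 v.2) ht htw ?_
  rw [htv]
  exact (inv_eq_of_mul_eq_one_left hvv).symm

/-! ### The degrees -/

def c23 : CD := ⟨23, 2, 11, 2, [(0, 0), (1, 2), (22, -2), (11, -1), (12, 1)], 0, false⟩
def c31 : CD := ⟨31, 1, 15, 2, [(0, 0), (1, 2), (30, -2), (15, -1), (16, 1)], 0, false⟩
def c47 : CD := ⟨47, 1, 23, 2, [(0, 0), (1, 2), (46, -2), (23, -1), (24, 1)], 0, false⟩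

def cdB : List CD := [c23, c31, c47]

def facB : List (ℕ × ℕ) := [(47, 1), (31, 1), (23, 1), (19, 1), (17, 1), (13, 1), (11, 1), (7, 2), (5, 6), (3, 13), (2, 41)]

theorem chk1 : (cdB.all (CD.ok 4154781481226426191177580544000000)) = true := by decide +kernel

theorem chk2 : (facB.all fun pa => Nat.Prime pa.1) = true := by
  simp only [facB, List.all_cons, List.all_nil, Bool.and_true]
  norm_num

theorem chk3 : facProd facB = 4154781481226426191177580544000000 := by decide +kernel

theorem chk4 : allDiv (1407462 * 1407462) (tstP 0 [(11, [1, 10]), (19, [1, 18])] [] cdB) facB 1 = true := by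
  decide +kernel

theorem exists_ord {r : ℕ} (hr : r.Prime) (hd : r ∣ 4154781481226426191177580544000000) :
    ∃ x : Spor.BabyMonster, orderOf x = r := by
  have := finite_b
  have := Fact.mk hr
  exact exists_prime_orderOf_dvd_card' r (by rw [card_b]; exact hd)

theorem hasB (h3 : SThree.{0}) : ∀ d ∈ cdB, d.Has Spor.BabyMonster := by
  have := finite_b
  have := simple_b
  intro d hd
  simp only [cdB, List.mem_cons, List.not_mem_nil, or_false] at hd
  rcases hd with rfl | rfl | rfl
  · obtain ⟨x, hx⟩ := exists_ord (r := 23) (by norm_num) (by norm_num)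
    exact ⟨by norm_num [c23], x, hx, B.cent23 h3 ⟨MulEquiv.refl _⟩ hx⟩
  · obtain ⟨x, hx⟩ := exists_ord (r := 31) (by norm_num) (by norm_num)
    exact ⟨by norm_num [c31], x, hx, B.cent31 h3 ⟨MulEquiv.refl _⟩ hx⟩
  · obtain ⟨x, hx⟩ := exists_ord (r := 47) (by norm_num) (by norm_num)
    exact ⟨by norm_num [c47], x, hx, H954.DR.CentB.cent47 ⟨MulEquiv.refl _⟩ hx⟩

/-! ### The result -/

theorem i4_model (h3 : SThree.{0}) {g : Spor.BabyMonster}
    (hg : Nat.card (centralizer ({g} : Set Spor.BabyMonster)) ≤ 198000000000) : H777.Ore.I4 g := by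
  have := finite_b
  have := simple_b
  have hp : Fact (Nat.Prime 11) := ⟨by norm_num⟩
  have hq : Fact (Nat.Prime 19) := ⟨by norm_num⟩
  obtain ⟨P, K, hK, hP, hrel, ⟨e⟩⟩ := exists_block
  obtain ⟨Q⟩ : Nonempty (Sylow 19 Spor.BabyMonster) := inferInstance
  have hQ : Nat.card Q = 19 := card_of_not_sq_dvd (by rw [card_b]; norm_num) (by rw [card_b]; norm_num) Q
  obtain ⟨L, hL⟩ := exists_isComp Q hQ
  have hrel' := (B.norm19 h3 ⟨MulEquiv.refl _⟩ (P := (Q : Subgroup Spor.BabyMonster)) hQ).1
  have hL2 : Nat.card L = 2 := by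
    obtain ⟨x, hx, hPx, hCx⟩ := cent_eq (G := Spor.BabyMonster) (p := 19) (by norm_num) (P := (Q : Subgroup _)) hQ
    have h1 := SmallSimple.ThetaOrtho.card_centralizer hL hQ
    rw [hCx, B.cent19 h3 ⟨MulEquiv.refl _⟩ hx] at h1
    omega
  have hu : ∃ u : P, u ≠ 1 := by
    have : Nontrivial P := by
      rw [← Finite.one_lt_card_iff_nontrivial]
      show 1 < Nat.card P
      rw [hP]; norm_num
    exact exists_ne 1
  have hw : ∃ w : Q, w ≠ 1 := by
    have : Nontrivial Q := by
      rw [← Finite.one_lt_card_iff_nontrivial]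
      show 1 < Nat.card Q
      rw [hQ]; norm_num
    exact exists_ne 1
  obtain ⟨u, hu⟩ := hu
  obtain ⟨w, hw⟩ := hw
  refine i4_blocks (p := 11) (q := 19) hK hP hu (w := w) (fun v => sr_block hK hP hrel e u v)
    (fun v => sr_block19 h3 hL hQ hL2 hw v) (m := 1) (c := 198000000000) (d := 1407462) ?_ ?_ (by norm_num) hg
  · intro χ
    have h1 := part_sq_le hL hQ isIrr_one (e := 18) (t := 1) (card_stab_one hL hQ hrel') (by norm_num) χ hw
    simpa using h1
  · intro χ h1 h2 h4
    refine deg_of_check nonab_b _ card_b facB chk2 chk3 cdB chk1 (hasB h3) minDeg_zero noDeg_nil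
      [(11, [1, 10]), (19, [1, 18])] chk4 h1 ?_
    intro pl hpl
    simp only [List.mem_cons, List.not_mem_nil, or_false] at hpl
    rcases hpl with rfl | rfl
    · have h5 := mod_of_part hK hP hrel (t := 1) (by norm_num) hu h2
      simp only [List.mem_cons, List.not_mem_nil, or_false] at h5 ⊢
      omega
    · have h5 := mod_of_part hL hQ hrel' (t := 1) (by norm_num) hw h4
      simp only [List.mem_cons, List.not_mem_nil, or_false] at h5 ⊢
      omega

/-- **T1 for products of four involutions in the Baby Monster.** -/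
theorem T1I_B (h3 : SThree.{0}) {S : Type u} [Group S] (h : Spor.IsoB S) {g : S}
    (hg : Nat.card (centralizer ({g} : Set S)) ≤ 198000000000) : H777.Ore.I4 g := by
  obtain ⟨e⟩ : Nonempty (S ≃* Spor.BabyMonster) := h
  have h1 : Nat.card (centralizer ({e g} : Set Spor.BabyMonster)) = Nat.card (centralizer ({g} : Set S)) := by
    refine Nat.card_congr (e.toEquiv.subtypeEquiv fun a => ?_).symm
    rw [mem_centralizer_singleton_iff, mem_centralizer_singleton_iff]
    show a * g = g * a ↔ e a * e g = e g * e a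
    rw [← map_mul, ← map_mul, e.apply_eq_iff_eq]
  have h2 := i4_model h3 (h1.le.trans hg)
  have h4 := H529.Inv.I4.map e.symm.toMonoidHom h2
  have h5 : e.symm.toMonoidHom (e g) = g := e.symm_apply_apply g
  rwa [h5] at h4

end Cfsg.Agent.H860.I4
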